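import Groth.Agent.FibreKer.Basic

/-!
# Basic elements at primes of bounded height
-/

set_option autoImplicit false
set_option linter.style.haveILetI false

universe u

open TensorProduct

namespace Groth.Agent.BasicElt6

variable {A : Type u} [CommRing A] {M : Type u} [AddCommGroup M] [Module A M]

/-- The image of `u` in the fibre at `p`. -/
noncomputable abbrev vec {n : ℕ} (u : Fin n → M) (p : PrimeSpectrum A) : Fin n → p.asIdeal.ResidueField ⊗[A] M :=
  fun i => 1 ⊗ₜ u i

/-- The span of the images of `u` in the fibre at `p`. -/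
noncomputable abbrev W {n : ℕ} (u : Fin n → M) (p : PrimeSpectrum A) :
    Submodule p.asIdeal.ResidueField (p.asIdeal.ResidueField ⊗[A] M) :=
  Submodule.span p.asIdeal.ResidueField (Set.range (vec u p))

/-- The dimension of the span of the images. -/
noncomputable def d {n : ℕ} (u : Fin n → M) (p : PrimeSpectrum A) : ℕ :=
  Module.finrank p.asIdeal.ResidueField (W u p)

/-- The condition of being `k`-basic. -/
def Good (A : Type u) {M : Type u} [CommRing A] [AddCommGroup M] [Module A M] (k : ℕ) {n : ℕ} (u : Fin n → M) : Prop :=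
  ∀ (p : PrimeSpectrum A) (h : ℕ), p.asIdeal.height = h → h ≤ k → min n (k + 1 - h) ≤ d u p

theorem range_baseChange {n : ℕ} (u : Fin n → M) (p : PrimeSpectrum A) :
    LinearMap.range ((Fintype.linearCombination A u).baseChange p.asIdeal.ResidueField) = W u p := by
  apply le_antisymm
  · rintro _ ⟨z, rfl⟩
    induction z using TensorProduct.induction_on with
    | zero => simp
    | tmul a c =>
      rw [LinearMap.baseChange_tmul, Fintype.linearCombination_apply, TensorProduct.tmul_sum]
      refine Submodule.sum_mem _ fun i _ => ?_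
      rw [show a ⊗ₜ[A] (c i • u i) = (c i • a) • ((1 : p.asIdeal.ResidueField) ⊗ₜ[A] u i) by
        rw [TensorProduct.smul_tmul', smul_eq_mul, mul_one, TensorProduct.tmul_smul, TensorProduct.smul_tmul']]
      exact Submodule.smul_mem _ _ (Submodule.subset_span ⟨i, rfl⟩)
    | add x y hx hy => rw [map_add]; exact add_mem hx hy
  · refine Submodule.span_le.2 ?_
    rintro _ ⟨i, rfl⟩
    exact ⟨1 ⊗ₜ Pi.single i 1, by simp [LinearMap.baseChange_tmul, Fintype.linearCombination_apply_single]⟩

theorem d_add_rk [Module.Finite A M] {n : ℕ} (u : Fin n → M) (p : PrimeSpectrum A) :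
    d u p + FibreKer.rk (A := A) (M ⧸ LinearMap.range (Fintype.linearCombination A u)) p =
      FibreKer.rk (A := A) M p := by
  have h := FibreKer.finrank_range_add (k := p.asIdeal.ResidueField) (Fintype.linearCombination A u)
  rw [range_baseChange] at h
  exact h

/-- Coefficients avoiding a finite number of linear conditions at distinct primes. -/
theorem exists_coeff {n : ℕ} (c : ∀ p : PrimeSpectrum A, Fin (n + 1) → p.asIdeal.ResidueField)
    (P : Finset (PrimeSpectrum A)) (hc : ∀ p ∈ P, c p ≠ 0) :
    ∃ a : Fin n → A, ∀ p ∈ P,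
      ∑ i, algebraMap A p.asIdeal.ResidueField (a i) * c p i.castSucc ≠ c p (Fin.last n) := by
  classical
  induction P using Finset.strongInduction with
  | _ P ih =>
    rcases P.eq_empty_or_nonempty with rfl | hP
    · exact ⟨0, by simp⟩
    obtain ⟨p, hp⟩ := P.exists_minimal hP
    obtain ⟨a, ha⟩ := ih (P.erase p) (Finset.erase_ssubset hp.prop) fun q hq => hc q (Finset.mem_of_mem_erase hq)
    by_cases he : ∑ i, algebraMap A p.asIdeal.ResidueField (a i) * c p i.castSucc = c p (Fin.last n)
    swap
    · exact ⟨a, fun q hq => if h : q = p then h ▸ he else ha q (Finset.mem_erase.2 ⟨h, hq⟩)⟩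
    obtain ⟨i, hi⟩ : ∃ i : Fin n, c p i.castSucc ≠ 0 := by
      by_contra hne
      simp only [not_exists, not_not] at hne
      refine hc p hp.prop (funext fun j => ?_)
      induction j using Fin.lastCases with
      | last => rw [← he]; simp [hne]
      | cast j => exact hne j
    have hnle : ¬ (P.erase p).inf (fun q : PrimeSpectrum A => q.asIdeal) ≤ p.asIdeal := fun hle => by
      obtain ⟨q, hq, hqp⟩ := (p.2.inf_le').1 hle
      exact Finset.ne_of_mem_erase hq (le_antisymm hqp (hp.2 (Finset.mem_of_mem_erase hq) hqp))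
    obtain ⟨b, hb, hbp⟩ := SetLike.not_le_iff_exists.1 hnle
    refine ⟨Function.update a i (a i + b), fun q hq => ?_⟩
    have hsum : ∑ j, algebraMap A q.asIdeal.ResidueField (Function.update a i (a i + b) j) * c q j.castSucc =
        ∑ j, algebraMap A q.asIdeal.ResidueField (a j) * c q j.castSucc +
          algebraMap A q.asIdeal.ResidueField b * c q i.castSucc := by
      have h1 : ∀ j, algebraMap A q.asIdeal.ResidueField (Function.update a i (a i + b) j) * c q j.castSucc =
          algebraMap A q.asIdeal.ResidueField (a j) * c q j.castSucc +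
            if j = i then algebraMap A q.asIdeal.ResidueField b * c q i.castSucc else 0 := fun j => by
        by_cases h : j = i
        · subst h; simp [add_mul]
        · simp [h]
      simp [h1, Finset.sum_add_distrib]
    rw [hsum]
    by_cases h : q = p
    · subst h
      rw [he]
      intro hh
      rw [add_eq_left, mul_eq_zero, Ideal.algebraMap_residueField_eq_zero] at hh
      exact hh.elim hbp hi
    · have hq' := Finset.mem_erase.2 ⟨h, hq⟩
      rw [(Ideal.algebraMap_residueField_eq_zero).2 (Finset.inf_le (f := fun q : PrimeSpectrum A => q.asIdeal) hq' hb),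
        zero_mul, add_zero]
      exact ha q hq'

variable [IsNoetherianRing A] [Module.Finite A M] {k r : ℕ}

theorem finite_critical (hrk : ∀ p : PrimeSpectrum A, p.asIdeal.height ≤ k → FibreKer.rk (A := A) M p = r)
    {n : ℕ} {u : Fin (n + 1) → M} (hu : Good A k u) :
    {p : PrimeSpectrum A | ∃ h : ℕ, p.asIdeal.height = h ∧ h ≤ k ∧ k + 1 - h ≤ n ∧ d u p = k + 1 - h}.Finite := by
  classical
  let N := M ⧸ LinearMap.range (Fintype.linearCombination A u)
  have key : ∀ p : PrimeSpectrum A, p.asIdeal.height ≤ k → d u p + FibreKer.rk (A := A) N p = r :=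
    fun p hp => (d_add_rk u p).trans (hrk p hp)
  have hclosed : ∀ e : ℕ, ∃ I : Ideal A,
      ∀ p : PrimeSpectrum A, I ≤ p.asIdeal ↔ e ≤ FibreKer.rk (A := A) N p := fun e => by
    obtain ⟨I, hI⟩ := (PrimeSpectrum.isClosed_iff_zeroLocus_ideal _).1
      ((upperSemicontinuous_iff_isClosed_preimage.1 (FibreKer.upperSemicontinuous_rk (A := A) N)) e)
    exact ⟨I, fun p => Iff.symm (Set.ext_iff.1 hI p)⟩
  choose I hI using hclosed
  refine Set.Finite.subset (Set.Finite.biUnion (Finset.range (r + 1)).finite_toSet fun e _ =>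
    ((I e).finite_minimalPrimes_of_isNoetherianRing).preimage
      (f := fun p : PrimeSpectrum A => p.asIdeal) fun p _ q _ h => PrimeSpectrum.ext h) ?_
  rintro p ⟨h, hph, hhk, hn, hd⟩
  have hp : p.asIdeal.height ≤ k := by rw [hph]; exact_mod_cast hhk
  refine Set.mem_biUnion (x := FibreKer.rk (A := A) N p)
    (Finset.mem_coe.2 (Finset.mem_range.2 (by have := key p hp; omega))) ?_
  refine ⟨⟨p.2, (hI _ p).2 le_rfl⟩, fun q hq hqp => ?_⟩
  by_contra hne
  have hlt : q < p.asIdeal := lt_of_le_not_ge hqp hne
  haveI := hq.1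
  have hqh : q.height < p.asIdeal.height := by
    haveI : q.FiniteHeight := Ideal.finiteHeight_of_le hqp p.2.ne_top
    exact Ideal.height_strict_mono_of_isPrime hlt
  obtain ⟨h', hh'⟩ := ENat.ne_top_iff_exists.1 (ne_top_of_lt hqh)
  rw [← hh', hph, Nat.cast_lt] at hqh
  have h1 := hu ⟨q, hq.1⟩ h' hh'.symm (by omega)
  have h2 := (hI _ ⟨q, hq.1⟩).1 hq.2
  have h3 := key ⟨q, hq.1⟩ (by rw [← hh']; exact_mod_cast (by omega : h' ≤ k))
  have h4 := key p hp
  omega

theorem exists_good_succ (hrk : ∀ p : PrimeSpectrum A, p.asIdeal.height ≤ k → FibreKer.rk (A := A) M p = r)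
    {n : ℕ} {u : Fin (n + 1) → M} (hu : Good A k u) : ∃ u' : Fin n → M, Good A k u' := by
  classical
  let P := {p : PrimeSpectrum A | ∃ h : ℕ, p.asIdeal.height = h ∧ h ≤ k ∧ k + 1 - h ≤ n ∧ d u p = k + 1 - h}
  have hP : P.Finite := finite_critical hrk hu
  have hex : ∀ p : PrimeSpectrum A, ∃ c : Fin (n + 1) → p.asIdeal.ResidueField,
      p ∈ P → c ≠ 0 ∧ ∑ i, c i • vec u p i = 0 := fun p => by
    by_cases hp : p ∈ P
    · obtain ⟨h, -, -, hn, hd⟩ := hp
      have hli : ¬ LinearIndependent p.asIdeal.ResidueField (vec u p) := fun hli => by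
        have h1 : d u p = n + 1 := (finrank_span_eq_card hli).trans (Fintype.card_fin _)
        omega
      obtain ⟨c, hc, i, hi⟩ := Fintype.not_linearIndependent_iff.1 hli
      exact ⟨c, fun _ => ⟨fun h0 => hi (congrFun h0 i), hc⟩⟩
    · exact ⟨0, fun h => absurd h hp⟩
  choose c hc using hex
  obtain ⟨a, ha⟩ := exists_coeff c hP.toFinset fun p hp => (hc p (hP.mem_toFinset.1 hp)).1
  refine ⟨fun i => u i.castSucc + a i • u (Fin.last n), fun p h hph hhk => ?_⟩
  let u' : Fin n → M := fun i => u i.castSucc + a i • u (Fin.last n)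
  let l := vec u p (Fin.last n)
  have hu' : ∀ i, vec u' p i = vec u p i.castSucc + algebraMap A p.asIdeal.ResidueField (a i) • l := fun i => by
    show (1 : p.asIdeal.ResidueField) ⊗ₜ[A] (u i.castSucc + a i • u (Fin.last n)) = _
    rw [TensorProduct.tmul_add, TensorProduct.tmul_smul, algebraMap_smul]
  have hle : W u p ≤ W u' p ⊔ p.asIdeal.ResidueField ∙ l := by
    refine Submodule.span_le.2 ?_
    rintro _ ⟨i, rfl⟩
    induction i using Fin.lastCases with
    | last => exact Submodule.mem_sup_right (Submodule.mem_span_singleton_self l)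
    | cast i =>
      rw [show vec u p i.castSucc = vec u' p i - algebraMap A p.asIdeal.ResidueField (a i) • l by
        rw [hu', add_sub_cancel_right]]
      exact Submodule.sub_mem _ (Submodule.mem_sup_left (Submodule.subset_span ⟨i, rfl⟩))
        (Submodule.mem_sup_right (Submodule.smul_mem _ _ (Submodule.mem_span_singleton_self l)))
  have hsub : d u p ≤ d u' p + 1 := by
    refine (Submodule.finrank_mono hle).trans ((Submodule.finrank_add_le_finrank_add_finrank _ _).trans
      (add_le_add le_rfl ?_))
    exact (finrank_span_le_card {l}).trans (by simp)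
  have h1 := hu p h hph hhk
  show min n (k + 1 - h) ≤ d u' p
  by_cases hcr : p ∈ P
  · obtain ⟨hc0, hrel⟩ := hc p hcr
    have hne := ha p (hP.mem_toFinset.2 hcr)
    have hmem : l ∈ W u' p := by
      have hsum : ∑ i, c p i.castSucc • vec u' p i =
          (∑ i, algebraMap A p.asIdeal.ResidueField (a i) * c p i.castSucc - c p (Fin.last n)) • l := by
        rw [Fin.sum_univ_castSucc] at hrel
        have e1 : ∑ i : Fin n, c p i.castSucc • vec u p i.castSucc = - (c p (Fin.last n) • l) :=
          eq_neg_of_add_eq_zero_left hrel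
        simp only [hu', smul_add, Finset.sum_add_distrib, e1, smul_smul, sub_smul, Finset.sum_smul]
        rw [neg_add_eq_sub]
        refine Eq.trans ?_ (sub_smul (R := p.asIdeal.ResidueField) (M := p.asIdeal.ResidueField ⊗[A] M) _ _ l).symm
        refine congrArg (· - _) (Eq.trans ?_
          (Finset.sum_smul (R := p.asIdeal.ResidueField) (M := p.asIdeal.ResidueField ⊗[A] M)).symm)
        exact Finset.sum_congr rfl fun i _ => congrArg (fun t : p.asIdeal.ResidueField => t • l) (mul_comm _ _)
      have hm : ∑ i, c p i.castSucc • vec u' p i ∈ W u' p :=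
        Submodule.sum_mem _ fun i _ => Submodule.smul_mem _ _ (Submodule.subset_span ⟨i, rfl⟩)
      rw [hsum] at hm
      exact (Submodule.smul_mem_iff _ (sub_ne_zero.2 hne)).1 hm
    have : d u p ≤ d u' p :=
      Submodule.finrank_mono (hle.trans (sup_le le_rfl ((Submodule.span_singleton_le_iff_mem _ _).2 hmem)))
    omega
  · have : ¬ (k + 1 - h ≤ n ∧ d u p = k + 1 - h) := fun hh => hcr ⟨h, hph, hhk, hh⟩
    omega

/-- An element which is part of a basis at all primes of height at most `k`. -/
theorem exists_basic (hrk : ∀ p : PrimeSpectrum A, p.asIdeal.height ≤ k → FibreKer.rk (A := A) M p = r)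
    (hkr : k < r) :
    ∃ x : M, ∀ p : PrimeSpectrum A, p.asIdeal.height ≤ k → (1 : p.asIdeal.ResidueField) ⊗ₜ[A] x ≠ 0 := by
  obtain ⟨n, f, hf⟩ := Module.Finite.exists_fin' A M
  let u : Fin (n + 1) → M := Fin.snoc (fun i => f (Pi.single i 1)) 0
  have hu : Good A k u := fun p h hph hhk => by
    have htop : W u p = ⊤ := top_unique fun z _ => by
      induction z using TensorProduct.induction_on with
      | zero => simp
      | tmul a m =>
        obtain ⟨w, rfl⟩ := hf m
        rw [pi_eq_sum_univ' w, map_sum, TensorProduct.tmul_sum]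
        refine Submodule.sum_mem _ fun i _ => ?_
        rw [map_smul, show a ⊗ₜ[A] (w i • f (Pi.single i 1)) =
            (w i • a) • ((1 : p.asIdeal.ResidueField) ⊗ₜ[A] f (Pi.single i 1)) by
          rw [TensorProduct.smul_tmul', smul_eq_mul, mul_one, TensorProduct.tmul_smul, TensorProduct.smul_tmul']]
        exact Submodule.smul_mem _ _ (Submodule.subset_span ⟨i.castSucc, by simp [u, vec]⟩)
      | add x y hx hy => exact add_mem (hx trivial) (hy trivial)
    have hd : d u p = r := by
      rw [d, htop, finrank_top]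
      exact hrk p (by rw [hph]; exact_mod_cast hhk)
    omega
  have : ∀ j (v : Fin (j + 1) → M), Good A k v → ∃ w : Fin 1 → M, Good A k w := by
    intro j
    induction j with
    | zero => exact fun v hv => ⟨v, hv⟩
    | succ j ih => exact fun v hv => let ⟨v', hv'⟩ := exists_good_succ hrk hv; ih v' hv'
  obtain ⟨w, hw⟩ := this n u hu
  refine ⟨w 0, fun p hp h0 => ?_⟩
  obtain ⟨h, hh⟩ := ENat.ne_top_iff_exists.1 (ne_top_of_le_ne_top (ENat.coe_ne_top k) hp)
  have hhk : h ≤ k := by rw [← hh] at hp; exact_mod_cast hp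
  have h1 := hw p h hh.symm hhk
  have hW : W w p = ⊥ := Submodule.span_eq_bot.2 (by rintro _ ⟨i, rfl⟩; rw [Subsingleton.elim i 0]; exact h0)
  have h2 : d w p = 0 := by rw [d, hW, finrank_bot]
  omega

omit [IsNoetherianRing A] [Module.Finite A M] in
/-- The fibre of a module free of rank `r` at `p`. -/
noncomputable def fibreEquiv (p : PrimeSpectrum A)
    (e : LocalizedModule p.asIdeal.primeCompl M ≃ₗ[Localization.AtPrime p.asIdeal]
      (Fin r → Localization.AtPrime p.asIdeal)) :
    p.asIdeal.ResidueField ⊗[A] M ≃ₗ[p.asIdeal.ResidueField] (Fin r → p.asIdeal.ResidueField) :=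
  (AlgebraTensorModule.cancelBaseChange A (Localization.AtPrime p.asIdeal) p.asIdeal.ResidueField
      p.asIdeal.ResidueField M).symm ≪≫ₗ
    ((LocalizedModule.equivTensorProduct p.asIdeal.primeCompl M).symm ≪≫ₗ e).baseChange
      (Localization.AtPrime p.asIdeal) p.asIdeal.ResidueField ≪≫ₗ
    TensorProduct.piScalarRight (Localization.AtPrime p.asIdeal) p.asIdeal.ResidueField
      p.asIdeal.ResidueField (Fin r)

omit [IsNoetherianRing A] [Module.Finite A M] in
theorem fibreEquiv_apply (p : PrimeSpectrum A)
    (e : LocalizedModule p.asIdeal.primeCompl M ≃ₗ[Localization.AtPrime p.asIdeal]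
      (Fin r → Localization.AtPrime p.asIdeal)) (x : M) (i : Fin r) :
    fibreEquiv p e ((1 : p.asIdeal.ResidueField) ⊗ₜ[A] x) i =
      algebraMap (Localization.AtPrime p.asIdeal) p.asIdeal.ResidueField (e (LocalizedModule.mk x 1) i) := by
  simp [fibreEquiv, Algebra.smul_def]

omit [IsNoetherianRing A] in
theorem rk_eq (hM : ∀ p : PrimeSpectrum A, p.asIdeal.height ≤ k →
      Nonempty (LocalizedModule p.asIdeal.primeCompl M ≃ₗ[Localization.AtPrime p.asIdeal]
        (Fin r → Localization.AtPrime p.asIdeal))) (p : PrimeSpectrum A) (hp : p.asIdeal.height ≤ k) :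
    FibreKer.rk (A := A) M p = r :=
  (fibreEquiv p (hM p hp).some).finrank_eq.trans (Module.finrank_fin_fun _)

omit [IsNoetherianRing A] [Module.Finite A M] in
/-- An element nonzero in the fibre has a unit coordinate. -/
theorem exists_isUnit_coord (p : PrimeSpectrum A)
    (e : LocalizedModule p.asIdeal.primeCompl M ≃ₗ[Localization.AtPrime p.asIdeal]
      (Fin r → Localization.AtPrime p.asIdeal)) (x : M)
    (hx : (1 : p.asIdeal.ResidueField) ⊗ₜ[A] x ≠ 0) :
    ∃ i, IsUnit (e (LocalizedModule.mk x 1) i) := by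
  by_contra hne
  simp only [not_exists] at hne
  refine hx ((fibreEquiv p e).map_eq_zero_iff.1 (funext fun i => ?_))
  rw [fibreEquiv_apply, Pi.zero_apply]
  exact (IsLocalRing.residue_eq_zero_iff _).2 ((IsLocalRing.mem_maximalIdeal _).2 (hne i))

end Groth.Agent.BasicElt6
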